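import Mathlib

/-! Tensoring with spaces of functions. -/

namespace Groth.Agent.RatPts
open TensorProduct

variable {k : Type*} [Field k] (N : Type*) [AddCommGroup N] [Module k N] (S : Type*)

lemma piScalarRightHom_injective :
    Function.Injective (piScalarRightHom k k N S) := by
  classical
  rw [injective_iff_map_eq_zero]
  intro x hx
  let b := Module.Free.chooseBasis k N
  apply (TensorProduct.equivFinsuppOfBasisLeft b).injective
  rw [map_zero]
  ext i s
  have key : ∀ y : N ⊗[k] (S → k), TensorProduct.equivFinsuppOfBasisLeft b y i s =
      b.repr (piScalarRightHom k k N S y s) i := by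
    intro y
    induction y using TensorProduct.induction_on with
    | zero => simp
    | tmul a f => simp [mul_comm]
    | add a c ha hc => simp [ha, hc]
  rw [key, hx]; simp

variable {A : Type*} [CommRing A] [Algebra k A] {S : Type*}

/-- the evaluation map at a family of rational points -/
def evalPts (σ : S → A →ₐ[k] k) : A →ₐ[k] S → k := Pi.algHom k (fun _ : S => k) σ

lemma injective_baseChange (K : Type*) [Field K] [Algebra k K] (σ : S → A →ₐ[k] k)
    (hσ : Function.Injective (evalPts σ)) (x : K ⊗[k] A)
    (hx : ∀ s, (Algebra.TensorProduct.rid k K K).toAlgHom.comp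
        (Algebra.TensorProduct.map (AlgHom.id K K) (σ s)) x = 0) : x = 0 := by
  have h1 := Module.Flat.lTensor_preserves_injective_linearMap (M := K) _
    (show Function.Injective (evalPts σ).toLinearMap from hσ)
  apply h1
  apply piScalarRightHom_injective K S
  rw [map_zero, map_zero]
  funext s
  rw [Pi.zero_apply, ← hx s]
  clear hx
  induction x using TensorProduct.induction_on with
  | zero => simp
  | tmul a f => simp [evalPts, Algebra.smul_def, mul_comm]
  | add a c ha hc => simp [map_add, ha, hc]

end Groth.Agent.RatPts
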